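import Cfsg.Agent.H1.Walter.GoodSE
import Cfsg.Agent.H88.Walter.Data

/-!
# The piece facts from the shape data
-/

set_option autoImplicit false

namespace Cfsg.Agent.H1.Walter

universe u

theorem pieceFacts_of_shapeData (hd : H88.Walter.ShapeData.{u}) : PieceFacts.{u} :=
  fun L _ _ hs hn ha hsh P => ⟨(hd L hs hn ha hsh P).sq, (hd L hs hn ha hsh P).four,
    fun x hx z hz hx1 hz1 => by
      obtain ⟨y, hy, hk⟩ := (hd L hs hn ha hsh P).cyc
      obtain ⟨k, hk⟩ := hk x hx z hz hx1 hz1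
      exact ⟨y ^ k, pow_mem hy k, hk⟩⟩

end Cfsg.Agent.H1.Walter
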