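import Cfsg.Agent.H1.Walter.Piece
import Cfsg.Agent.H10.Walter.Dihedral
import Cfsg.Agent.H39.Basic

/-!
# The end of the components step

A configuration with trivial cores and no strongly embedded subgroup has neither a family of two or
more good subgroups nor a complementary pair, one member good, for a subgroup `M ⊇ N(S)`.
-/

set_option autoImplicit false
set_option linter.unusedSectionVars false
set_option linter.style.haveILetI false

namespace Cfsg.Agent.H1.Walter

open Subgroup Cfsg.Agent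
open Cfsg.Agent.H10.Walter (Cfg AbSyl Shape CoresTrivial NoSE)

universe u v

variable {G : Type u} [Group G] [Finite G]

local instance fact_two' : Fact (Nat.Prime 2) := ⟨Nat.prime_two⟩

theorem order_two {x : G} (h : x * x = 1) (h1 : x ≠ 1) : orderOf x = 2 :=
  H39.orderOf_eq_two_of_mul_self h h1

/-- All centralisers in `M`: impossible. -/
theorem false_of_all (h : Cfg G) (hno : NoSE G) (S : Sylow 2 G) {M : Subgroup G} (hM : M ≠ ⊤)
    (hN : normalizer ((S : Subgroup G) : Set G) ≤ M)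
    (hC : ∀ x ∈ (S : Subgroup G), orderOf x = 2 → centralizer ({x} : Set G) ≤ M) : False :=
  hno M (H70.Balanced.isStronglyEmbedded_of_centralizer_le hM S
    (S.ne_bot_of_dvd_card h.even_card.two_dvd) hN hC)

/-- An element centralising the component has its centraliser outside `M`. -/
theorem Piece.eq_one {S : Sylow 2 G} {M J : Subgroup G} {u : G} (hp : Piece S M u J) {c : G}
    (hc : c ∈ centralizer (J : Set G)) (hgood : c ≠ 1 → centralizer ({c} : Set G) ≤ M) : c = 1 :=
  by_contra fun h1 => hp.not_le (le_trans (fun j hj => mem_centralizer_singleton_iff.2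
    (mem_centralizer_iff.1 hc j hj)) (hgood h1))

/-- A good element of a family lies in the component, whose Sylow 2-subgroup lies in the same
member, unless that Sylow 2-subgroup is small. -/
theorem Piece.collide {S : Sylow 2 G} {M J : Subgroup G} {u : G} (hp : Piece S M u J)
    {ι : Type v} [Finite ι] {P : ι → Subgroup G} (hle : ∀ i, P i ≤ (S : Subgroup G))
    (hcent : ∀ i, ∀ x ∈ P i, x ≠ 1 → centralizer ({x} : Set G) ≤ M)
    (hperm : ∀ n ∈ normalizer ((S : Subgroup G) : Set G), ∀ i, ∃ j, ∀ x ∈ P i, n * x * n⁻¹ ∈ P j)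
    (hindep : ∀ i j, i ≠ j → ∀ x ∈ P i, ∀ y ∈ P j, x ≠ 1 → y ≠ 1 → ∀ k, x * y ∉ P k)
    {i : ι} {z : G} (hz : z ∈ P i) (hz1 : z ≠ 1) :
    ((S : Subgroup G) ⊓ J ≤ P i ∧ z ∈ J) ∨
      Nat.card ↥((S : Subgroup G) ⊓ J) ≤ Nat.card ι + 1 := by
  classical
  obtain ⟨a, ha, hc⟩ := hp.inner z (hle i hz)
  set c := z * a⁻¹ with hcdef
  have hza : z = c * a := by rw [hcdef, inv_mul_cancel_right]
  have ha1 : a ≠ 1 := fun e => hz1 (by
    rw [hza, e, mul_one]
    exact hp.eq_one hc fun _ => by rw [hcdef, e, inv_one, mul_one]; exact hcent i z hz hz1)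
  have hσ : ∀ b ∈ (S : Subgroup G) ⊓ J, b ≠ 1 → ∃ j, c * b ∈ P j := by
    intro b hb hb1
    obtain ⟨n, hnJ, hnS, hnab⟩ := hp.trans a ha b hb ha1 hb1
    obtain ⟨j, hj⟩ := hperm n hnS i
    refine ⟨j, ?_⟩
    have h1 := hj z hz
    have h2 : n * c = c * n := mem_centralizer_iff.1 hc n hnJ
    rwa [show n * z * n⁻¹ = c * b by rw [← hnab, hza]; simp [← mul_assoc, h2]] at h1
  by_cases hcol : ∃ b ∈ (S : Subgroup G) ⊓ J, ∃ b' ∈ (S : Subgroup G) ⊓ J, b ≠ 1 ∧ b' ≠ 1 ∧
      b ≠ b' ∧ ∃ k, c * b ∈ P k ∧ c * b' ∈ P k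
  · left
    obtain ⟨b, hb, b', hb', hb1, hb'1, hne, k, hk, hk'⟩ := hcol
    set e := b⁻¹ * b'
    have he : e ∈ P k := by
      have := mul_mem (inv_mem hk) hk'
      simpa [e, mul_assoc] using this
    have heQ : e ∈ (S : Subgroup G) ⊓ J := mul_mem (inv_mem hb) hb'
    have he1 : e ≠ 1 := fun h => hne (inv_mul_eq_one.1 h)
    have hmem : ∀ y ∈ (S : Subgroup G) ⊓ J, y ≠ 1 → ∃ j, y ∈ P j := by
      intro y hy hy1
      obtain ⟨n, -, hnS, hny⟩ := hp.trans e heQ y hy he1 hy1
      obtain ⟨j, hj⟩ := hperm n hnS k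
      exact ⟨j, hny ▸ hj e he⟩
    have hQk : (S : Subgroup G) ⊓ J ≤ P k := by
      intro y hy
      by_cases hy1 : y = 1
      · rw [hy1]; exact one_mem _
      obtain ⟨j, hj⟩ := hmem y hy hy1
      by_contra hyk
      have hjk : k ≠ j := fun h => hyk (h.symm ▸ hj)
      by_cases hey : e * y = 1
      · exact hindep k j hjk e he y hj he1 hy1 k (hey ▸ one_mem _)
      · obtain ⟨j', hj'⟩ := hmem _ (mul_mem heQ hy) hey
        exact hindep k j hjk e he y hj he1 hy1 j' hj'
    have hck : c ∈ P k := by simpa using mul_mem hk (inv_mem (hQk hb))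
    have hzk : z ∈ P k := hza ▸ mul_mem hck (hQk ha)
    have hik : i = k := by_contra fun h =>
      hindep i k h z hz z hzk hz1 hz1 i (mul_mem hz hz)
    subst hik
    have hc1 : c = 1 := hp.eq_one hc (hcent i c hck)
    exact ⟨hQk, by rw [hza, hc1, one_mul]; exact ha.2⟩
  · right
    push Not at hcol
    let f : ↥((S : Subgroup G) ⊓ J) → Option ι := fun b =>
      if h : (b : G) = 1 then none else some (hσ b b.2 h).choose
    have hf : Function.Injective f := by
      intro b b' hbb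
      by_cases hb : (b : G) = 1 <;> by_cases hb' : (b' : G) = 1
      · exact Subtype.ext (hb.trans hb'.symm)
      · simp only [f] at hbb
        rw [dif_pos hb, dif_neg hb'] at hbb
        cases hbb
      · simp only [f] at hbb
        rw [dif_neg hb, dif_pos hb'] at hbb
        cases hbb
      · simp only [f, dif_neg hb, dif_neg hb', Option.some.injEq] at hbb
        by_contra hne
        exact hcol b b.2 b' b'.2 hb hb' (fun h => hne (Subtype.ext h)) _
          (hσ b b.2 hb).choose_spec (hbb ▸ (hσ b' b'.2 hb').choose_spec)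
    exact (Nat.card_le_card_of_injective f hf).trans Finite.card_option.le

/-- A subgroup of good elements embeds in the Sylow 2-subgroup of the component. -/
theorem Piece.card_le {S : Sylow 2 G} {M J : Subgroup G} {u : G} (hp : Piece S M u J)
    {W : Subgroup G} (hW : W ≤ (S : Subgroup G))
    (hgood : ∀ x ∈ W, x ≠ 1 → centralizer ({x} : Set G) ≤ M) :
    Nat.card W ≤ Nat.card ↥((S : Subgroup G) ⊓ J) := by
  choose g hg hgc using fun w : W => hp.inner w (hW w.2)
  refine Nat.card_le_card_of_injective (fun w => (⟨g w, hg w⟩ : ↥((S : Subgroup G) ⊓ J))) ?_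
  intro w w' hww
  have hgw : g w = g w' := congrArg Subtype.val hww
  refine Subtype.ext (mul_inv_eq_one.1 (hp.eq_one ?_
    fun h1 => hgood _ (mul_mem w.2 (inv_mem w'.2)) h1))
  have := mul_mem (hgc w) (inv_mem (hgc w'))
  rw [hgw] at this
  simpa [mul_assoc] using this

/-- **Two or more good subgroups: impossible.** -/
theorem false_of_family (hsh : PieceFacts.{u}) (h : Cfg G) (hno : NoSE G)
    (hcores : CoresTrivial G) (S : Sylow 2 G) {M : Subgroup G} (hM : M ≠ ⊤)
    (hN : normalizer ((S : Subgroup G) : Set G) ≤ M) {ι : Type v} [Finite ι]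
    {P : ι → Subgroup G} (hle : ∀ i, P i ≤ (S : Subgroup G)) (hne : ∀ i, P i ≠ ⊥)
    (hcent : ∀ i, ∀ x ∈ P i, x ≠ 1 → centralizer ({x} : Set G) ≤ M)
    (hperm : ∀ n ∈ normalizer ((S : Subgroup G) : Set G), ∀ i, ∃ j, ∀ x ∈ P i, n * x * n⁻¹ ∈ P j)
    (hindep : ∀ i j, i ≠ j → ∀ x ∈ P i, ∀ y ∈ P j, x ≠ 1 → y ≠ 1 → ∀ k, x * y ∉ P k)
    (hι : Nontrivial ι) {W : Subgroup G} (hW : W ≤ (S : Subgroup G))
    (hWgood : ∀ x ∈ W, x ≠ 1 → centralizer ({x} : Set G) ≤ M)
    (hWcard : Nat.card ι + 1 < Nat.card W) : False := by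
  refine false_of_all h hno S hM hN fun u hu hu2 => by_contra fun hbad => ?_
  obtain ⟨J, hp⟩ := exists_piece hsh h hcores S hN hu hu2 hbad
  have hbig : ¬ Nat.card ↥((S : Subgroup G) ⊓ J) ≤ Nat.card ι + 1 := fun hb =>
    absurd ((hp.card_le hW hWgood).trans hb) (not_le.2 hWcard)
  obtain ⟨i, j, hij⟩ := exists_pair_ne ι
  obtain ⟨x, hx, hx1⟩ := (P i).bot_or_exists_ne_one.resolve_left (hne i)
  obtain ⟨y, hy, hy1⟩ := (P j).bot_or_exists_ne_one.resolve_left (hne j)
  have h1 := (hp.collide hle hcent hperm hindep hx hx1).resolve_right hbig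
  have h2 := (hp.collide hle hcent hperm hindep hy hy1).resolve_right hbig
  exact hindep i j hij x hx y hy hx1 hy1 j (mul_mem (h2.1 ⟨hle i hx, h1.2⟩) hy)

/-- A complementary pair of invariant subgroups of `Ω₁(S)`. -/
structure Pair (S : Sylow 2 G) (K X : Subgroup G) : Prop where
  le_left : K ≤ (S : Subgroup G)
  le_right : X ≤ (S : Subgroup G)
  sq_left : ∀ x ∈ K, x * x = 1
  sq_right : ∀ x ∈ X, x * x = 1
  inf : K ⊓ X = ⊥
  gen : ∀ u ∈ (S : Subgroup G), u * u = 1 → ∃ k ∈ K, ∃ x ∈ X, u = k * x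
  inv_left : ∀ n ∈ normalizer ((S : Subgroup G) : Set G), ∀ x ∈ K, n * x * n⁻¹ ∈ K
  inv_right : ∀ n ∈ normalizer ((S : Subgroup G) : Set G), ∀ x ∈ X, n * x * n⁻¹ ∈ X
  ne_left : K ≠ ⊥
  ne_right : X ≠ ⊥

theorem Pair.symm (h : Cfg G) {S : Sylow 2 G} {K X : Subgroup G} (hP : Pair S K X) : Pair S X K :=
  { le_left := hP.le_right, le_right := hP.le_left, sq_left := hP.sq_right, sq_right := hP.sq_left,
    inf := inf_comm X K ▸ hP.inf,
    gen := fun u hu hu2 => by
      obtain ⟨k, hk, x, hx, rfl⟩ := hP.gen u hu hu2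
      exact ⟨x, hx, k, hk, (h.absyl.comm S.isPGroup' (hP.le_left hk) (hP.le_right hx)).eq⟩
    inv_left := hP.inv_right, inv_right := hP.inv_left,
    ne_left := hP.ne_right, ne_right := hP.ne_left }

/-- With a good member `K`: a component outside `M` has Sylow 2-subgroup `K`, is centralised by
`X`, and the element is in `X`. -/
theorem Pair.bad {S : Sylow 2 G} {K X M : Subgroup G} (hP : Pair S K X)
    (hcent : ∀ x ∈ K, x ≠ 1 → centralizer ({x} : Set G) ≤ M) {u : G} (huS : u ∈ (S : Subgroup G))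
    (hu : orderOf u = 2) {J : Subgroup G} (hp : Piece S M u J) :
    K ≤ J ∧ X ≤ centralizer (J : Set G) ∧ u ∈ X := by
  have key : ∀ z ∈ K, z ≠ 1 → (S : Subgroup G) ⊓ J ≤ K ∧ z ∈ J := fun z hz hz1 =>
    (hp.collide (ι := PUnit.{1}) (P := fun _ => K) (fun _ => hP.le_left) (fun _ => hcent)
      (fun n hn _ => ⟨PUnit.unit, hP.inv_left n hn⟩) (fun i j hij => absurd (Subsingleton.elim i j) hij)
      (i := PUnit.unit) hz hz1).resolve_right fun hb => by
        have := hp.card
        rw [Nat.card_unique (α := PUnit.{1})] at hb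
        omega
  obtain ⟨z, hz, hz1⟩ := K.bot_or_exists_ne_one.resolve_left hP.ne_left
  have hQK := (key z hz hz1).1
  have hKJ : K ≤ J := fun y hy => by
    by_cases hy1 : y = 1
    · rw [hy1]; exact one_mem _
    · exact (key y hy hy1).2
  have hXC : X ≤ centralizer (J : Set G) := by
    intro x hx
    obtain ⟨a, ha, hc⟩ := hp.inner x (hP.le_right hx)
    by_cases ha1 : a = 1
    · simpa [ha1] using hc
    exfalso
    obtain ⟨b, hb, hb1, hba⟩ : ∃ b ∈ (S : Subgroup G) ⊓ J, b ≠ 1 ∧ b ≠ a := by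
      by_contra hcon
      push Not at hcon
      have h4 := hp.card
      classical
      have hsub : Nat.card ↥((S : Subgroup G) ⊓ J) ≤ Nat.card Bool := by
        refine Nat.card_le_card_of_injective
          (fun b => decide ((b : G) = 1)) fun b b' e => Subtype.ext ?_
        simp only [decide_eq_decide] at e
        by_cases hb : (b : G) = 1
        · rw [hb, e.1 hb]
        · rw [hcon b b.2 hb, hcon b' b'.2 (mt e.2 hb)]
      rw [Nat.card_eq_fintype_card (α := Bool), Fintype.card_bool] at hsub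
      omega
    obtain ⟨n, hnJ, hnS, hnab⟩ := hp.trans a ha b hb ha1 hb1
    have h1 := hP.inv_right n hnS x hx
    have h2 : n * (x * a⁻¹) = x * a⁻¹ * n := mem_centralizer_iff.1 hc n hnJ
    have h3 : n * x * n⁻¹ = x * a⁻¹ * b := by
      rw [← hnab]
      calc n * x * n⁻¹ = n * (x * a⁻¹) * a * n⁻¹ := by group
        _ = x * a⁻¹ * n * a * n⁻¹ := by rw [h2]
        _ = _ := by group
    rw [h3] at h1
    have h4 : a⁻¹ * b ∈ K ⊓ X := ⟨K.mul_mem (K.inv_mem (hQK ha)) (hQK hb),
      by simpa [mul_assoc] using mul_mem (inv_mem hx) h1⟩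
    rw [hP.inf, mem_bot, inv_mul_eq_one] at h4
    exact hba h4.symm
  refine ⟨hKJ, hXC, ?_⟩
  obtain ⟨k, hk, x, hx, rfl⟩ := hP.gen u huS (by rw [← sq, ← hu, pow_orderOf_eq_one])
  have huC : k * x ∈ centralizer (J : Set G) := mem_centralizer_iff.2 fun j hj =>
    mem_centralizer_singleton_iff.1 (hp.le hj)
  have hk1 : k = 1 := hp.center k (hKJ hk) (by simpa using mul_mem huC (inv_mem (hXC hx)))
  rw [hk1, one_mul]; exact hx

/-- A simple subgroup of `C(u)` through a nontrivial element of the component's Sylow 2-subgroup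
lies in the component. -/
theorem Piece.le_of_simple {S : Sylow 2 G} {M J Y : Subgroup G} {u : G} (hp : Piece S M u J)
    (hY : IsSimpleGroup ↥Y) (hYC : Y ≤ centralizer ({u} : Set G)) {k : G}
    (hk : k ∈ (S : Subgroup G) ⊓ J) (hkY : k ∈ Y) (hk1 : k ≠ 1) : Y ≤ J := by
  haveI := hY
  have hYN : Y ≤ normalizer (J : Set G) := by
    have hncl : normalClosure ({⟨k, hkY⟩} : Set ↥Y) = ⊤ :=
      normalClosure_normal.eq_bot_or_eq_top.resolve_left fun e => hk1 (by
        have h1 : (⟨k, hkY⟩ : ↥Y) ∈ normalClosure ({⟨k, hkY⟩} : Set ↥Y) :=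
          subset_normalClosure rfl
        rw [e, mem_bot] at h1
        exact congrArg Subtype.val h1)
    have hle : normalClosure ({⟨k, hkY⟩} : Set ↥Y) ≤ (normalizer (J : Set G)).subgroupOf Y := by
      refine (closure_le _).2 fun y hy => ?_
      obtain ⟨a, ha, hay⟩ := Group.mem_conjugatesOfSet_iff.1 hy
      rw [Set.mem_singleton_iff] at ha
      subst ha
      obtain ⟨j, rfl⟩ := isConj_iff.1 hay
      refine mem_subgroupOf.2 (hp.norm _ (hYC (Subtype.mem _)) (IsPGroup.of_card (n := 1) ?_))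
      push_cast
      rw [Nat.card_zpowers, H39.orderOf_conj, order_two (hp.sq k hk) hk1]
    intro y hy
    exact mem_subgroupOf.1 (hle (hncl ▸ mem_top (⟨y, hy⟩ : ↥Y)))
  haveI : (J.subgroupOf Y).Normal := normal_subgroupOf_of_le_normalizer hYN
  rcases (show (J.subgroupOf Y).Normal from inferInstance).eq_bot_or_eq_top with e | e
  · have h0 : (⟨k, hkY⟩ : ↥Y) ∈ J.subgroupOf Y := mem_subgroupOf.2 hk.2
    rw [e, mem_bot] at h0
    exact absurd (congrArg (fun y : ↥Y => (y : G)) h0) hk1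
  · exact subgroupOf_eq_top.1 e

/-- **An invariant complementary pair with a good member: impossible.** -/
theorem false_of_pair (hsh : PieceFacts.{u}) (h : Cfg G) (hno : NoSE G) (hcores : CoresTrivial G)
    (S : Sylow 2 G) {M : Subgroup G} (hM : M ≠ ⊤)
    (hN : normalizer ((S : Subgroup G) : Set G) ≤ M) {K X : Subgroup G} (hP : Pair S K X)
    (hcent : ∀ x ∈ K, x ≠ 1 → centralizer ({x} : Set G) ≤ M) : False := by
  haveI := h.simple
  obtain ⟨k, hk, hk1⟩ := K.bot_or_exists_ne_one.resolve_left hP.ne_left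
  -- some element is bad
  obtain ⟨u₀, hu₀S, hu₀, hbad⟩ : ∃ u ∈ (S : Subgroup G), orderOf u = 2 ∧
      ¬ centralizer ({u} : Set G) ≤ M := by
    by_contra hc
    push Not at hc
    exact false_of_all h hno S hM hN hc
  obtain ⟨J, hJ⟩ := exists_piece hsh h hcores S hN hu₀S hu₀ hbad
  obtain ⟨hKJ, hXJ, hu₀X⟩ := hP.bad hcent hu₀S hu₀ hJ
  -- the component at every element of `X`
  have hJC : ∀ x ∈ X, J ≤ centralizer ({x} : Set G) := fun x hx j hj =>
    mem_centralizer_singleton_iff.2 (mem_centralizer_iff.1 (hXJ hx) j hj)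
  have hall : ∀ x ∈ X, x ≠ 1 → Piece S M x J := by
    intro x hx hx1
    obtain ⟨J', hJ'⟩ := exists_piece hsh h hcores S hN (hP.le_right hx)
      (order_two (hP.sq_right x hx) hx1) fun hle => hJ.not_le ((hJC x hx).trans hle)
    obtain ⟨hKJ', hXJ', -⟩ := hP.bad hcent (hP.le_right hx) (order_two (hP.sq_right x hx) hx1) hJ'
    have e : J = J' := le_antisymm
      (hJ'.le_of_simple hJ.simple (hJC x hx) ⟨hP.le_left hk, hKJ' hk⟩ (hKJ hk) hk1)
      (hJ.le_of_simple hJ'.simple (fun j hj => mem_centralizer_singleton_iff.2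
        (mem_centralizer_iff.1 (hXJ' hu₀X) j hj)) ⟨hP.le_left hk, hKJ hk⟩ (hKJ' hk) hk1)
    exact e ▸ hJ'
  set M' := normalizer (J : Set G) with hM'
  have hN' : normalizer ((S : Subgroup G) : Set G) ≤ M' := by
    intro n hn
    refine Components.mem_normalizer_of_map_conj_eq ?_
    set x := n * u₀ * n⁻¹ with hx
    have hxX : x ∈ X := hP.inv_right n hn u₀ hu₀X
    have hx1 : x ≠ 1 := fun e => H39.ne_one_of_orderOf_eq_two hu₀ (conj_eq_one_iff.1 e)
    refine eq_of_le_of_card_ge ((hall x hxX hx1).le_of_simple ?_ ?_ ⟨hP.le_left hk, hKJ hk⟩ ?_ hk1)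
      (Subgroup.card_map_of_injective (MulAut.conj n).injective).ge
    · haveI := hJ.simple
      exact (J.equivMapOfInjective _ (MulAut.conj n).injective).symm.isSimpleGroup
    · rintro _ ⟨j, hj, rfl⟩
      have h1 : Commute j u₀ := mem_centralizer_singleton_iff.1 (hJ.le hj)
      exact mem_centralizer_singleton_iff.2 (h1.map (MulAut.conj n).toMonoidHom).eq
    · exact ⟨n⁻¹ * k * n, hKJ (by simpa using hP.inv_left n⁻¹ (inv_mem hn) k hk), by
        show n * (n⁻¹ * k * n) * n⁻¹ = k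
        group⟩
  have hM'top : M' ≠ ⊤ := by
    intro e
    rcases (normalizer_eq_top_iff.1 e).eq_bot_or_eq_top with e' | e'
    · exact hJ.not_le (e' ▸ bot_le)
    · exact h.centralizer_ne_top (H39.ne_one_of_orderOf_eq_two hu₀) (top_le_iff.1 (e' ▸ hJ.le))
  have hcent' : ∀ x ∈ X, x ≠ 1 → centralizer ({x} : Set G) ≤ M' := fun x hx hx1 =>
    (hall x hx hx1).cent_le hN'
  -- outside `K` everything is good for `M'`
  have hgood : ∀ u ∈ (S : Subgroup G), orderOf u = 2 → u ∉ K → centralizer ({u} : Set G) ≤ M' :=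
    fun u hu hu2 huK => by_contra fun hb => by
      obtain ⟨J', hJ'⟩ := exists_piece hsh h hcores S hN' hu hu2 hb
      exact huK ((hP.symm h).bad hcent' hu hu2 hJ').2.2
  obtain ⟨x, hx, hx1⟩ := X.bot_or_exists_ne_one.resolve_left hP.ne_right
  have hx2 := order_two (hP.sq_right x hx) hx1
  have hfus : ∀ {Y : Subgroup G}, Y ≤ (S : Subgroup G) →
      (∀ n ∈ normalizer ((S : Subgroup G) : Set G), ∀ y ∈ Y, n * y * n⁻¹ ∈ Y) →
      ∀ {a b : G}, a ∈ Y → IsConj a b → b ∈ (S : Subgroup G) → b ∈ Y := by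
    intro Y hYS hinv a b ha hab hb
    obtain ⟨g, hg⟩ := isConj_iff.1 hab
    obtain ⟨n, hn, hna⟩ := Fusion.controlsElementFusion_normalizer_of_commutative S (h.absyl S) a
      (hYS ha) g (hg ▸ hb)
    rw [← hg, ← hna]; exact hinv n hn a ha
  have hconj : ∀ c : G, IsConj k c → c ∈ M' := by
    intro c hc
    have hc2 : orderOf c = 2 := by
      obtain ⟨g, rfl⟩ := isConj_iff.1 hc
      rw [H39.orderOf_conj, order_two (hP.sq_left k hk) hk1]
    have heven : Even (orderOf (c * x)) := Nat.not_odd_iff_even.1 fun ho => by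
      obtain ⟨d, -, -, -, hd⟩ := H39.exists_conj_of_odd hx2 hc2 ho
      have hkX := hfus hP.le_right hP.inv_right hx ((isConj_iff.2 ⟨d, hd⟩).trans hc.symm)
        (hP.le_left hk)
      exact hk1 (mem_bot.1 (hP.inf ▸ (show k ∈ K ⊓ X from ⟨hk, hkX⟩)))
    obtain ⟨w, hw2, hwd, hwx, hwc⟩ := H39.exists_central_involution hx2 hc2 heven
    obtain ⟨l, hl⟩ := mem_zpowers_iff.1 hwd
    -- `w * x` is conjugate to `x` or to `c`
    have hcase : IsConj x (w * x) ∨ IsConj c (w * x) := by
      rcases Int.even_or_odd l with ⟨i, hi⟩ | ⟨i, hi⟩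
      · refine Or.inl (isConj_iff.2 ⟨(c * x) ^ i, ?_⟩)
        have := H39.zpow_conj_mul (H39.conj_mul_involutions hx2 hc2) i 0
        rw [zpow_zero, one_mul] at this
        rw [this, ← hl, hi]; congr 2; ring
      · refine Or.inr (isConj_iff.2 ⟨(c * x) ^ i, ?_⟩)
        have := H39.zpow_conj_mul (H39.conj_mul_involutions hx2 hc2) i 1
        rw [zpow_one, show c * x * x = c by
          rw [mul_assoc, hP.sq_right x hx, mul_one]] at this
        rw [this, ← hl, hi]; congr 2; ring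
    have hwM : w ∈ M' := hcent' x hx hx1 (mem_centralizer_singleton_iff.2 hwx.eq)
    -- move `x` and `w` into `S`
    have hp : IsPGroup 2 ↥(zpowers x ⊔ zpowers w) := by
      refine IsPGroup.to_sup_of_normal_right' (IsPGroup.of_card (n := 1)
        (by rw [Nat.card_zpowers, hx2, pow_one])) (IsPGroup.of_card (n := 1)
        (by rw [Nat.card_zpowers, hw2, pow_one])) (zpowers_le.2 ?_)
      refine mem_normalizer_iff.2 fun y => ?_
      have hby : ∀ y ∈ zpowers w, x * y * x⁻¹ = y := fun y hy => by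
        obtain ⟨i, rfl⟩ := mem_zpowers_iff.1 hy
        rw [(hwx.symm.zpow_right i).eq, mul_inv_cancel_right]
      refine ⟨fun hy => by rw [hby y hy]; exact hy, fun hy => ?_⟩
      have h3 : x * y * x⁻¹ = y := mul_left_cancel (mul_right_cancel (hby _ hy))
      rwa [h3] at hy
    obtain ⟨g, hg⟩ := H39.exists_conj_le_sylow hp S
    have haS := hg x (mem_sup_left (mem_zpowers x))
    have hwS := hg w (mem_sup_right (mem_zpowers w))
    have haX : g * x * g⁻¹ ∈ X := hfus hP.le_right hP.inv_right hx (isConj_iff.2 ⟨g, rfl⟩) haS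
    have hw'2 : orderOf (g * w * g⁻¹) = 2 := by rw [H39.orderOf_conj, hw2]
    have hprod : g * (w * x) * g⁻¹ = g * w * g⁻¹ * (g * x * g⁻¹) := by group
    have hbS : g * (w * x) * g⁻¹ ∈ (S : Subgroup G) := hprod ▸ mul_mem hwS haS
    have hwK : g * w * g⁻¹ ∉ K := by
      intro hwK
      rcases hcase with hcx | hcc
      · have hbX : g * (w * x) * g⁻¹ ∈ X :=
          hfus hP.le_right hP.inv_right hx (hcx.trans (isConj_iff.2 ⟨g, rfl⟩)) hbS
        have hwX : g * w * g⁻¹ ∈ X := by
          have := mul_mem hbX (inv_mem haX)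
          rwa [hprod, mul_inv_cancel_right] at this
        have h0 := mem_bot.1 (hP.inf ▸ (show g * w * g⁻¹ ∈ K ⊓ X from ⟨hwK, hwX⟩))
        exact H39.ne_one_of_orderOf_eq_two hw'2 h0
      · have hbK : g * (w * x) * g⁻¹ ∈ K :=
          hfus hP.le_left hP.inv_left hk ((hc.trans hcc).trans (isConj_iff.2 ⟨g, rfl⟩)) hbS
        have haK : g * x * g⁻¹ ∈ K := by
          have := mul_mem (inv_mem hwK) hbK
          rwa [hprod, inv_mul_cancel_left] at this
        have h0 := mem_bot.1 (hP.inf ▸ (show g * x * g⁻¹ ∈ K ⊓ X from ⟨haK, haX⟩))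
        exact hx1 (conj_eq_one_iff.1 h0)
    exact H10.Walter.centralizer_le_of_conj h.absyl S hN' hwS hwM hw2
      (isConj_iff.2 ⟨g⁻¹, by group⟩) (hgood _ hwS hw'2 hwK)
      (mem_centralizer_singleton_iff.2 hwc.symm.eq)
  -- so the normal closure of `k` lies in `M'`
  refine hM'top (eq_top_iff.2 ?_)
  rw [← normalClosure_normal.eq_bot_or_eq_top.resolve_left
    (fun e => hk1 (mem_bot.1 (e ▸ subset_normalClosure (Set.mem_singleton k))))]
  refine (closure_le _).2 fun c hc => ?_
  obtain ⟨a, ha, hac⟩ := Group.mem_conjugatesOfSet_iff.1 hc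
  rw [Set.mem_singleton_iff] at ha
  exact hconj c (ha ▸ hac)

end Cfsg.Agent.H1.Walter
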