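import Cfsg.Agent.H10.Walter.Local
import Cfsg.Agent.H70.Balanced.Criterion

/-!
# Components of involution centralisers outside a subgroup over `N(S)`

For a configuration with trivial cores and a subgroup `M ⊇ N(S)` not containing `C(u)`, `u ∈ S`,
some component of `C(u)` lies outside `M`; `Piece` records what the endgame uses about it.
-/

set_option autoImplicit false
set_option linter.unusedSectionVars false
set_option linter.style.haveILetI false

namespace Cfsg.Agent.H1.Walter

open Subgroup Cfsg.Agent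
open Cfsg.Agent.H10.Walter (Cfg AbSyl Shape CoresTrivial NoSE)

universe u

/-- The Sylow 2-subgroup facts for the groups of the conclusion. -/
def PieceFacts : Prop :=
  ∀ (L : Type u) [Group L] [Finite L], IsSimpleGroup L → ¬ IsMulCommutative L → AbSyl L → Shape L →
    ∀ P : Sylow 2 L, (∀ x ∈ (P : Subgroup L), x * x = 1) ∧ 4 ≤ Nat.card ↥(P : Subgroup L) ∧
      ∀ x ∈ (P : Subgroup L), ∀ y ∈ (P : Subgroup L), x ≠ 1 → y ≠ 1 →
        ∃ n ∈ normalizer ((P : Subgroup L) : Set L), n * x * n⁻¹ = y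

variable {G : Type u} [Group G] [Finite G]

local instance fact_two : Fact (Nat.Prime 2) := ⟨Nat.prime_two⟩

/-- A component `J` of `C(u)` outside `M`. -/
structure Piece (S : Sylow 2 G) (M : Subgroup G) (u : G) (J : Subgroup G) : Prop where
  le : J ≤ centralizer ({u} : Set G)
  not_le : ¬ J ≤ M
  simple : IsSimpleGroup ↥J
  sq : ∀ x ∈ (S : Subgroup G) ⊓ J, x * x = 1
  card : 4 ≤ Nat.card ↥((S : Subgroup G) ⊓ J)
  inner : ∀ s ∈ (S : Subgroup G), ∃ g ∈ (S : Subgroup G) ⊓ J, s * g⁻¹ ∈ centralizer (J : Set G)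
  trans : ∀ x ∈ (S : Subgroup G) ⊓ J, ∀ y ∈ (S : Subgroup G) ⊓ J, x ≠ 1 → y ≠ 1 →
    ∃ n ∈ J, n ∈ normalizer ((S : Subgroup G) : Set G) ∧ n * x * n⁻¹ = y
  center : ∀ x ∈ J, x ∈ centralizer (J : Set G) → x = 1
  norm : ∀ y ∈ centralizer ({u} : Set G), IsPGroup 2 ↥(zpowers y) → y ∈ normalizer (J : Set G)
  cent_le : normalizer ((S : Subgroup G) : Set G) ≤ normalizer (J : Set G) →
    centralizer ({u} : Set G) ≤ normalizer (J : Set G)

theorem sylow_le_centralizer (h : Cfg G) (S : Sylow 2 G) {u : G} (huS : u ∈ (S : Subgroup G)) :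
    (S : Subgroup G) ≤ centralizer ({u} : Set G) := fun s hs =>
  mem_centralizer_singleton_iff.2 (h.absyl.comm S.isPGroup' hs huS).eq

/-- `C(u)` lies in `M` when its components do and `N(S)` does. -/
theorem centralizer_le (h : Cfg G) (hcores : CoresTrivial G) (S : Sylow 2 G) {u : G}
    (huS : u ∈ (S : Subgroup G)) (hu : orderOf u = 2) {M : Subgroup G}
    (hN : normalizer ((S : Subgroup G) : Set G) ≤ M)
    (hcomp : ∀ L : Subgroup ↥(centralizer ({u} : Set G)), Cfsg.IsComponent L →
      L.map (centralizer ({u} : Set G)).subtype ≤ M) :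
    centralizer ({u} : Set G) ≤ M := by
  have hSC := sylow_le_centralizer h S huS
  have habs := h.absyl_subgroup (centralizer ({u} : Set G))
  have hO := hcores u hu
  set C := centralizer ({u} : Set G)
  set T : Sylow 2 ↥C := S.subtype hSC
  haveI : (Cfsg.generalizedFittingSubgroup ↥C).Normal := inferInstance
  have htop := T.normalizer_sup_eq_top' (H10.Walter.sylow_le_genFitting habs hO T)
  have hTS : (T : Subgroup ↥C) = (S : Subgroup G).subgroupOf C := Sylow.coe_subtype S hSC
  have hTM : ((T : Subgroup ↥C)).map C.subtype ≤ M := by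
    rw [hTS, subgroupOf_map_subtype, inf_eq_left.2 hSC]
    exact le_normalizer.trans hN
  have hN' : (normalizer ((T : Subgroup ↥C) : Set ↥C)).map C.subtype ≤ M := by
    rintro _ ⟨n, hn, rfl⟩
    refine hN (mem_normalizer_iff.2 fun x => ⟨fun hx => ?_, fun hx => ?_⟩)
    · have h1 := (mem_normalizer_iff.1 hn ⟨x, hSC hx⟩).1 (hTS ▸ mem_subgroupOf.2 hx)
      rw [hTS] at h1
      exact mem_subgroupOf.1 h1
    · have hxC : x ∈ C := by
        have h0 := C.mul_mem (C.mul_mem (C.inv_mem n.2) (hSC hx)) n.2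
        simpa [mul_assoc] using h0
      have h1 := (mem_normalizer_iff.1 hn ⟨x, hxC⟩).2 (hTS ▸ mem_subgroupOf.2 hx)
      rw [hTS] at h1
      exact mem_subgroupOf.1 h1
  have hF : (Cfsg.generalizedFittingSubgroup ↥C).map C.subtype ≤ M := by
    refine le_trans ?_ (sup_le (le_refl M) hTM)
    rw [Components.genFitting_eq_sup, Subgroup.map_sup]
    refine sup_le_sup ?_ (map_mono ((Components.fitting_le_pCore (p := 2) hO).trans
      (Cores.pCore_le_sylow T)))
    rw [Cfsg.layer, sSup_eq_iSup, Subgroup.map_iSup]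
    exact iSup_le fun L => by
      rw [Subgroup.map_iSup]; exact iSup_le fun hL => hcomp L hL
  intro c hc
  have h1 : (⟨c, hc⟩ : ↥C) ∈ normalizer ((T : Subgroup ↥C) : Set ↥C) ⊔
      Cfsg.generalizedFittingSubgroup ↥C := htop ▸ mem_top _
  have h2 := mem_map_of_mem C.subtype h1
  rw [Subgroup.map_sup] at h2
  exact sup_le hN' hF h2

/-- Some component of a centraliser outside `M` lies outside `M`. -/
theorem exists_piece (hsh : PieceFacts.{u}) (h : Cfg G) (hcores : CoresTrivial G) (S : Sylow 2 G)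
    {M : Subgroup G} (hN : normalizer ((S : Subgroup G) : Set G) ≤ M) {u : G}
    (huS : u ∈ (S : Subgroup G)) (hu : orderOf u = 2) (hbad : ¬ centralizer ({u} : Set G) ≤ M) :
    ∃ J : Subgroup G, Piece S M u J := by
  classical
  have hSC := sylow_le_centralizer h S huS
  have habs := h.absyl_subgroup (centralizer ({u} : Set G))
  have hO := hcores u hu
  have hne : centralizer ({u} : Set G) ≠ ⊤ :=
    h.centralizer_ne_top fun e => by rw [e, orderOf_one] at hu; omega
  set C := centralizer ({u} : Set G) with hCdef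
  obtain ⟨L, hL, hLM⟩ : ∃ L : Subgroup ↥C, Cfsg.IsComponent L ∧ ¬ L.map C.subtype ≤ M := by
    by_contra hc
    push Not at hc
    exact hbad (centralizer_le h hcores S huS hu hN hc)
  have hlt : Nat.card ↥C < Nat.card G :=
    (Subgroup.card_le_card_group C).lt_of_ne fun e => hne (C.card_eq_iff_eq_top.1 e)
  obtain ⟨hsimp, hnab⟩ := H10.Walter.component_simple habs hO hL
  set T : Sylow 2 ↥C := S.subtype hSC
  have hTS : ∀ x : ↥C, x ∈ (T : Subgroup ↥C) ↔ (x : G) ∈ (S : Subgroup G) := fun x => by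
    rw [Sylow.coe_subtype, mem_subgroupOf]
  obtain ⟨P, hP⟩ : ∃ P : Sylow 2 ↥L, (P : Subgroup ↥L) = (T : Subgroup ↥C).subgroupOf L :=
    Cfsg.Agent.S0542.result 2 L hL.1 T
  have hPS : ∀ x : ↥L, x ∈ (P : Subgroup ↥L) ↔ ((x : ↥C) : G) ∈ (S : Subgroup G) := fun x => by
    rw [hP, mem_subgroupOf, hTS]
  obtain ⟨hsq, hcard, htr⟩ := hsh ↥L hsimp hnab (habs.subgroup L)
    (H10.Walter.component_shape h.small hlt habs hO hL) P
  have hmem : ∀ x : G, x ∈ (S : Subgroup G) ⊓ L.map C.subtype ↔
      ∃ l : ↥L, l ∈ (P : Subgroup ↥L) ∧ ((l : ↥C) : G) = x := by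
    intro x
    constructor
    · rintro ⟨hxS, l, hl, rfl⟩
      exact ⟨⟨l, hl⟩, (hPS _).2 hxS, rfl⟩
    · rintro ⟨l, hl, rfl⟩
      exact ⟨(hPS l).1 hl, l, l.2, rfl⟩
  have hcommJ : ∀ {c : ↥C}, c ∈ centralizer (L : Set ↥C) →
      (c : G) ∈ centralizer ((L.map C.subtype : Subgroup G) : Set G) := fun {c} hc =>
    mem_centralizer_iff.2 fun y hy => by
      obtain ⟨l, hl, rfl⟩ := hy
      exact congrArg Subtype.val (mem_centralizer_iff.1 hc l hl)
  refine ⟨L.map C.subtype,
    { le := map_subtype_le L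
      not_le := hLM
      simple := by
        haveI := hsimp
        exact (L.equivMapOfInjective C.subtype C.subtype_injective).symm.isSimpleGroup
      sq := fun x hx => by
        obtain ⟨l, hl, rfl⟩ := (hmem x).1 hx
        exact congrArg (fun y : ↥L => ((y : ↥C) : G)) (hsq l hl)
      card := by
        refine hcard.trans (le_of_eq ?_)
        have he : (S : Subgroup G) ⊓ L.map C.subtype =
            ((P : Subgroup ↥L).map L.subtype).map C.subtype := by
          ext x
          rw [hmem]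
          constructor
          · rintro ⟨l, hl, rfl⟩; exact ⟨(l : ↥C), ⟨l, hl, rfl⟩, rfl⟩
          · rintro ⟨_, ⟨l, hl, rfl⟩, rfl⟩; exact ⟨l, hl, rfl⟩
        rw [he, Subgroup.card_map_of_injective C.subtype_injective,
          Subgroup.card_map_of_injective L.subtype_injective]
      inner := fun s hs => by
        obtain ⟨g, ⟨hgT, hgL⟩, hc⟩ := H10.Walter.exists_inner habs hO hL T
          (s := ⟨s, hSC hs⟩) ((hTS _).2 hs)
        exact ⟨g, ⟨(hTS g).1 hgT, g, hgL, rfl⟩, hcommJ hc⟩
      trans := fun x hx y hy hx1 hy1 => by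
        obtain ⟨l, hl, rfl⟩ := (hmem x).1 hx
        obtain ⟨m, hm, rfl⟩ := (hmem y).1 hy
        obtain ⟨n, hn, hne⟩ := htr l hl m hm (fun e => hx1 (by rw [e]; rfl))
          (fun e => hy1 (by rw [e]; rfl))
        have key : ∀ n : ↥L, n ∈ normalizer ((P : Subgroup ↥L) : Set ↥L) → ∀ s ∈ (S : Subgroup G),
            ((n : ↥C) : G) * s * ((n : ↥C) : G)⁻¹ ∈ (S : Subgroup G) := by
          intro n hn s hs
          obtain ⟨g, ⟨hgT, hgL⟩, hc⟩ := H10.Walter.exists_inner habs hO hL T
            (s := ⟨s, hSC hs⟩) ((hTS _).2 hs)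
          have h1 := (mem_normalizer_iff.1 hn ⟨g, hgL⟩).1 ((hPS _).2 ((hTS g).1 hgT))
          rw [hPS] at h1
          have h2 : ((n : ↥C) : G) * (s * (g : G)⁻¹) = s * (g : G)⁻¹ * (n : ↥C) :=
            mem_centralizer_iff.1 (hcommJ hc) _ ⟨n, n.2, rfl⟩
          have h3 : s * (g : G)⁻¹ ∈ (S : Subgroup G) := mul_mem hs (inv_mem ((hTS g).1 hgT))
          have := mul_mem h3 h1
          rw [show ((n : ↥C) : G) * s * ((n : ↥C) : G)⁻¹ =
            s * (g : G)⁻¹ * (((n : ↥C) : G) * g * ((n : ↥C) : G)⁻¹) by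
              rw [← mul_assoc, ← mul_assoc, ← h2]; group]
          exact this
        refine ⟨_, ⟨n, n.2, rfl⟩, mem_normalizer_iff.2 fun s => ⟨key n hn s, fun hs => ?_⟩,
          congrArg (fun y : ↥L => ((y : ↥C) : G)) hne⟩
        have := key n⁻¹ (inv_mem hn) _ hs
        simpa [mul_assoc] using this
      center := fun x hx hxc => by
        obtain ⟨l, hl, rfl⟩ := hx
        have hz : (⟨l, hl⟩ : ↥L) ∈ center ↥L := mem_center_iff.2 fun m =>
          Subtype.ext (Subtype.ext (mem_centralizer_iff.1 hxc _ ⟨m, m.2, rfl⟩))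
        haveI := hsimp
        rcases (show (center ↥L).Normal from inferInstance).eq_bot_or_eq_top with e | e
        · rw [e, mem_bot] at hz
          exact congrArg (fun y : ↥L => ((y : ↥C) : G)) hz
        · exact absurd e (Components.qs_center_ne_top hL.2)
      norm := fun y hy hp => by
        obtain ⟨T', hT'⟩ := (hp.comap_subtype (K := C)).exists_le_sylow
        have h1 := H10.Walter.le_normalizer_component habs hO hL T'
          (hT' (show (⟨y, hy⟩ : ↥C) ∈ (zpowers y).subgroupOf C from mem_zpowers y))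
        exact le_normalizer_map C.subtype ⟨⟨y, hy⟩, h1, rfl⟩
      cent_le := fun hNJ => centralizer_le h hcores S huS hu hNJ fun L' hL' =>
        (map_mono ((Components.component_le_layer hL').trans
          (Components.layer_le_normalizer_component hL))).trans
          (le_normalizer_map C.subtype) }⟩

end Cfsg.Agent.H1.Walter
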